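import Mathlib
import Groth.Agent.S0406

/-!
# Flatness and finite presentation over semi-valuation rings
-/

set_option autoImplicit false
set_option linter.style.haveILetI false

universe u

open TensorProduct

namespace Groth.Agent.H1SemiVal

section Regular

variable {O : Type u} [CommRing O] (s : O) {I C : Type u} [AddCommGroup I] [Module O I]
  [AddCommGroup C] [Module O C]

theorem exists_eq_smul_of_one_tmul {N : Type u} [AddCommGroup N] [Module O N] (y : N)
    (h : (1 : O ⧸ Ideal.span {s}) ⊗ₜ[O] y = 0) : ∃ w : N, y = s • w := by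
  have h1 := congrArg (TensorProduct.quotTensorEquivQuotSMul N (Ideal.span {s})) h
  rw [map_zero, ← map_one (Ideal.Quotient.mk (Ideal.span {s})), TensorProduct.quotTensorEquivQuotSMul_mk_tmul,
    one_smul, Submodule.Quotient.mk_eq_zero, Submodule.ideal_span_singleton_smul,
    Submodule.mem_smul_pointwise_iff_exists] at h1
  obtain ⟨w, -, hw⟩ := h1
  exact ⟨w, hw.symm⟩

theorem one_tmul_smul {N : Type u} [AddCommGroup N] [Module O N] (y : N) :
    (1 : O ⧸ Ideal.span {s}) ⊗ₜ[O] (s • y) = 0 := by
  rw [← TensorProduct.smul_tmul, Algebra.smul_def, mul_one, Ideal.Quotient.algebraMap_eq,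
    Ideal.Quotient.eq_zero_iff_mem.2 (Ideal.mem_span_singleton_self s), TensorProduct.zero_tmul]

/-- If `C ⧸ sC` is flat over `O ⧸ s` then `s` stays regular on `I ⊗ C`. -/
theorem smul_regular_tensor (hI : ∀ a : I, s • a = 0 → a = 0) (hC : ∀ c : C, s • c = 0 → c = 0)
    [Module.Flat (O ⧸ Ideal.span {s}) ((O ⧸ Ideal.span {s}) ⊗[O] C)]
    (x : I ⊗[O] C) (hx : s • x = 0) : x = 0 := by
  classical
  let π : (C →₀ O) →ₗ[O] C := Finsupp.linearCombination O id
  have hπ : Function.Surjective π := Finsupp.linearCombination_surjective O Function.surjective_id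
  let sub := (LinearMap.ker π).subtype
  have hexact : Function.Exact sub π := LinearMap.exact_subtype_ker_map π
  have hg : Function.Injective (sub.baseChange (O ⧸ Ideal.span {s})) := by
    rw [injective_iff_map_eq_zero]
    intro z hz
    obtain ⟨k, rfl⟩ := TensorProduct.mk_surjective O (LinearMap.ker π) (O ⧸ Ideal.span {s})
      Ideal.Quotient.mk_surjective z
    simp only [TensorProduct.mk_apply, LinearMap.baseChange_tmul] at hz ⊢
    obtain ⟨f, hf⟩ := exists_eq_smul_of_one_tmul s _ hz
    have hfk : π f = 0 := hC _ (by rw [← map_smul, ← hf]; exact k.2)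
    have hfk' : f ∈ LinearMap.ker π := hfk
    rw [show k = s • (⟨f, hfk'⟩ : LinearMap.ker π) from Subtype.ext hf]
    exact one_tmul_smul (N := ↥(LinearMap.ker π)) s _
  have hexact' : Function.Exact (sub.baseChange (O ⧸ Ideal.span {s})) (π.baseChange (O ⧸ Ideal.span {s})) := by
    have h := lTensor_exact (R := O) (M := ↥(LinearMap.ker π)) (N := C →₀ O) (P := C) (f := sub) (g := π) (O ⧸ Ideal.span {s}) hexact hπ
    simpa [LinearMap.baseChange_eq_ltensor] using h
  have hsurj : Function.Surjective (π.baseChange (O ⧸ Ideal.span {s})) :=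
    LinearMap.lTensor_surjective (O ⧸ Ideal.span {s}) hπ
  have hinj := LinearMap.lTensor_injective_of_exact_of_flat (π.baseChange (O ⧸ Ideal.span {s})) hsurj
    (sub.baseChange (O ⧸ Ideal.span {s})) hg hexact' ((O ⧸ Ideal.span {s}) ⊗[O] I)
  obtain ⟨y, rfl⟩ := LinearMap.lTensor_surjective I hπ x
  rw [← map_smul] at hx
  obtain ⟨w, hw⟩ := (lTensor_exact (R := O) (M := ↥(LinearMap.ker π)) (N := C →₀ O) (P := C) (f := sub) (g := π) I hexact hπ _).1 hx
  have hw0 : (1 : O ⧸ Ideal.span {s}) ⊗ₜ[O] w = 0 := by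
    apply (TensorProduct.AlgebraTensorModule.distribBaseChange O (O ⧸ Ideal.span {s}) I (LinearMap.ker π)).injective
    apply hinj
    rw [map_zero, map_zero]
    have key : ∀ z : I ⊗[O] LinearMap.ker π,
        LinearMap.lTensor ((O ⧸ Ideal.span {s}) ⊗[O] I) (sub.baseChange (O ⧸ Ideal.span {s}))
          (TensorProduct.AlgebraTensorModule.distribBaseChange O (O ⧸ Ideal.span {s}) I (LinearMap.ker π) (1 ⊗ₜ z)) =
        TensorProduct.AlgebraTensorModule.distribBaseChange O (O ⧸ Ideal.span {s}) I (C →₀ O) (1 ⊗ₜ LinearMap.lTensor I sub z) := by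
      intro z
      induction z using TensorProduct.induction_on with
      | zero => simp
      | tmul a k => simp [TensorProduct.AlgebraTensorModule.distribBaseChange_tmul]
      | add a b ha hb => simp only [TensorProduct.tmul_add, map_add, ha, hb]
    rw [key, hw, one_tmul_smul, map_zero]
  obtain ⟨w', rfl⟩ := exists_eq_smul_of_one_tmul s w hw0
  have hy : y = LinearMap.lTensor I sub w' := by
    have h0 : s • (y - LinearMap.lTensor I sub w') = 0 := by rw [smul_sub, ← map_smul, hw, sub_self]
    refine sub_eq_zero.1 ?_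
    apply (TensorProduct.finsuppScalarRight O O I C).injective
    rw [map_zero]
    have h1 := congrArg (TensorProduct.finsuppScalarRight O O I C) h0
    rw [map_smul, map_zero] at h1
    ext c
    refine hI _ ?_
    simpa using congrArg (fun g => g c) h1
  rw [hy, ← LinearMap.comp_apply, ← LinearMap.lTensor_comp, hexact.linearMap_comp_eq_zero, LinearMap.lTensor_zero,
    LinearMap.zero_apply]

end Regular

section SemiVal

variable {O A C : Type u} [CommRing O] [CommRing A] [Algebra O A] (m : Ideal O) [m.IsPrime]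
  [IsLocalization m.primeCompl A] [CommRing C] [Algebra O C]

theorem smul_regular_algebra (hinj : Function.Injective (TensorProduct.mk O A C 1)) {s : O} (hs : s ∉ m)
    (c : C) (h : s • c = 0) : c = 0 := by
  refine hinj ?_
  rw [map_zero]
  have h1 : s • TensorProduct.mk O A C 1 c = 0 := by rw [← map_smul, h, map_zero]
  exact ((IsLocalization.map_units A (⟨s, hs⟩ : m.primeCompl)).smul_eq_zero).1 (by rwa [algebraMap_smul])

theorem smul_regular_base (hinjA : Function.Injective (algebraMap O A)) {s : O} (hs : s ∉ m)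
    (r : O) (h : s • r = 0) : r = 0 := by
  refine hinjA ?_
  rw [map_zero]
  have h1 := congrArg (algebraMap O A) h
  rw [smul_eq_mul, map_mul, map_zero] at h1
  exact (IsLocalization.map_units A (⟨s, hs⟩ : m.primeCompl)).mul_right_eq_zero.1 h1

variable (hm : ∀ μ ∈ m, ∀ s : O, s ∉ m → ∃ μ' ∈ m, μ = s * μ')

omit [m.IsPrime] in
include hm in
theorem exists_eq_smul_of_mem {N : Type u} [AddCommGroup N] [Module O N] {s : O} (hs : s ∉ m) {y : N}
    (hy : y ∈ m • (⊤ : Submodule O N)) : ∃ d ∈ m • (⊤ : Submodule O N), y = s • d := by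
  refine Submodule.smul_induction_on hy ?_ ?_
  · intro μ hμ e he
    obtain ⟨μ', hμ', rfl⟩ := hm μ hμ s hs
    exact ⟨μ' • e, Submodule.smul_mem_smul hμ' he, mul_smul _ _ _⟩
  · intro a b ha hb
    obtain ⟨d, hd, rfl⟩ := ha
    obtain ⟨d', hd', rfl⟩ := hb
    exact ⟨d + d', add_mem hd hd', (smul_add _ _ _).symm⟩

include hm in
theorem flat_residue [ValuationRing (O ⧸ m)] (hinj : Function.Injective (TensorProduct.mk O A C 1)) :
    Module.Flat (O ⧸ m) ((O ⧸ m) ⊗[O] C) := by
  rw [Module.Flat.flat_iff_torsion_eq_bot_of_isBezout, eq_bot_iff]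
  intro z hz
  obtain ⟨⟨a, ha⟩, hz⟩ := hz
  obtain ⟨c, rfl⟩ := TensorProduct.mk_surjective O C (O ⧸ m) Ideal.Quotient.mk_surjective z
  obtain ⟨s, rfl⟩ := Ideal.Quotient.mk_surjective a
  have hs : s ∉ m := fun h => nonZeroDivisors.ne_zero ha (Ideal.Quotient.eq_zero_iff_mem.2 h)
  simp only [TensorProduct.mk_apply, Submonoid.mk_smul, TensorProduct.smul_tmul', smul_eq_mul, mul_one] at hz
  have h1 := congrArg (TensorProduct.quotTensorEquivQuotSMul C m) hz
  rw [map_zero, TensorProduct.quotTensorEquivQuotSMul_mk_tmul, Submodule.Quotient.mk_eq_zero] at h1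
  obtain ⟨d, hd, he⟩ := exists_eq_smul_of_mem m hm hs h1
  have hcd : c = d := sub_eq_zero.1 (smul_regular_algebra (A := A) m hinj hs (c - d) (by rw [smul_sub, he, sub_self]))
  rw [Submodule.mem_bot, TensorProduct.mk_apply]
  apply (TensorProduct.quotTensorEquivQuotSMul C m).injective
  rw [map_zero, ← map_one (Ideal.Quotient.mk m), TensorProduct.quotTensorEquivQuotSMul_mk_tmul, one_smul,
    Submodule.Quotient.mk_eq_zero, hcd]
  exact hd

include hm in
theorem flat [ValuationRing (O ⧸ m)] (hinjA : Function.Injective (algebraMap O A))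
    (hinj : Function.Injective (TensorProduct.mk O A C 1)) [Module.Flat A (A ⊗[O] C)] : Module.Flat O C := by
  haveI := flat_residue (A := A) m hm (C := C) hinj
  haveI : Module.Flat O A := IsLocalization.flat A m.primeCompl
  haveI : Module.Flat O (A ⊗[O] C) := Module.Flat.trans O A (A ⊗[O] C)
  rw [Module.Flat.iff_rTensor_injective']
  intro I
  rw [injective_iff_map_eq_zero]
  intro x hx
  have hkill : (1 : A) ⊗ₜ[O] x = 0 := by
    apply (TensorProduct.leftComm O A I C).injective
    apply Module.Flat.rTensor_preserves_injective_linearMap (M := A ⊗[O] C) I.subtype Subtype.val_injective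
    rw [map_zero, map_zero]
    have key : ∀ z : I ⊗[O] C, LinearMap.rTensor (A ⊗[O] C) I.subtype (TensorProduct.leftComm O A I C (1 ⊗ₜ z)) =
        TensorProduct.leftComm O A O C (1 ⊗ₜ LinearMap.rTensor C I.subtype z) := by
      intro z
      induction z using TensorProduct.induction_on with
      | zero => simp
      | tmul a c => simp
      | add a b ha hb => simp only [TensorProduct.tmul_add, map_add, ha, hb]
    rw [key, hx, TensorProduct.tmul_zero, map_zero]
  obtain ⟨⟨s, hs⟩, hsx⟩ := (IsLocalizedModule.eq_zero_iff m.primeCompl (TensorProduct.mk O A (I ⊗[O] C) 1)).1 hkill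
  have hle : m ≤ Ideal.span {s} := fun μ hμ => by
    obtain ⟨μ', -, rfl⟩ := hm μ hμ s hs
    exact Ideal.mul_mem_right _ _ (Ideal.mem_span_singleton_self s)
  letI : Algebra (O ⧸ m) (O ⧸ Ideal.span {s}) := (Ideal.Quotient.factor hle).toAlgebra
  haveI : IsScalarTower O (O ⧸ m) (O ⧸ Ideal.span {s}) := IsScalarTower.of_algebraMap_eq fun r => rfl
  haveI : Module.Flat (O ⧸ Ideal.span {s}) ((O ⧸ Ideal.span {s}) ⊗[O] C) :=
    Module.Flat.of_linearEquiv
      (TensorProduct.AlgebraTensorModule.cancelBaseChange O (O ⧸ m) (O ⧸ Ideal.span {s}) (O ⧸ Ideal.span {s}) C).symm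
  refine smul_regular_tensor s (fun a ha => Subtype.ext ?_) (smul_regular_algebra (A := A) m hinj hs) x hsx
  exact smul_regular_base (A := A) m hinjA hs _ (congrArg Subtype.val ha)

omit [m.IsPrime] [IsLocalization m.primeCompl A] in
theorem includeRight_apply_eq (c : C) :
    (Algebra.TensorProduct.includeRight : C →ₐ[O] A ⊗[O] C) c = TensorProduct.mk O A C 1 c := rfl

include hm in
theorem finitePresentation [ValuationRing (O ⧸ m)] [Algebra.FiniteType O C]
    (hinjA : Function.Injective (algebraMap O A))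
    (hinj : Function.Injective (TensorProduct.mk O A C 1)) [Algebra.FinitePresentation A (A ⊗[O] C)] [Module.Flat A (A ⊗[O] C)] :
    Algebra.FinitePresentation O C := by
  classical
  haveI := flat_residue (A := A) m hm (C := C) hinj
  haveI : Algebra.FinitePresentation (O ⧸ m) ((O ⧸ m) ⊗[O] C) := S0406.result
  obtain ⟨n, π, hπ⟩ := (Algebra.FiniteType.iff_quotient_mvPolynomial'' (R := O) (S := C)).1 inferInstance
  -- base change of the presentation
  have hbc : ∀ (B : Type u) [CommRing B] [Algebra O B],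
      ∃ πB : MvPolynomial (Fin n) B →ₐ[B] B ⊗[O] C, Function.Surjective πB ∧
        ∀ p, πB (MvPolynomial.map (algebraMap O B) p) = 1 ⊗ₜ[O] π p := by
    intro B _ _
    let πB : MvPolynomial (Fin n) B →ₐ[B] B ⊗[O] C := MvPolynomial.aeval fun i => 1 ⊗ₜ[O] π (MvPolynomial.X i)
    have h1 : ∀ p, πB (MvPolynomial.map (algebraMap O B) p) = 1 ⊗ₜ[O] π p := by
      intro p
      rw [show πB (MvPolynomial.map (algebraMap O B) p) = MvPolynomial.aeval (fun i => (1 : B) ⊗ₜ[O] π (MvPolynomial.X i)) p
        from MvPolynomial.aeval_map_algebraMap (A := B) (fun i => (1 : B) ⊗ₜ[O] π (MvPolynomial.X i)) p]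
      exact (AlgHom.congr_fun (MvPolynomial.aeval_unique
        ((Algebra.TensorProduct.includeRight : C →ₐ[O] B ⊗[O] C).comp π)) p).symm
    refine ⟨πB, fun z => ?_, h1⟩
    induction z using TensorProduct.induction_on with
    | zero => exact ⟨0, map_zero _⟩
    | tmul b c =>
      obtain ⟨p, rfl⟩ := hπ c
      refine ⟨MvPolynomial.C b * MvPolynomial.map (algebraMap O B) p, ?_⟩
      rw [map_mul, h1, ← MvPolynomial.algebraMap_eq, AlgHom.commutes, Algebra.TensorProduct.algebraMap_apply,
        Algebra.algebraMap_self, RingHom.id_apply, Algebra.TensorProduct.tmul_mul_tmul, mul_one, one_mul]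
    | add x y hx hy =>
      obtain ⟨p, rfl⟩ := hx
      obtain ⟨q, rfl⟩ := hy
      exact ⟨p + q, map_add _ _ _⟩
  obtain ⟨πA, hπA, hπA'⟩ := hbc A
  obtain ⟨πR, hπR, hπR'⟩ := hbc (O ⧸ m)
  let φ := MvPolynomial.map (σ := Fin n) (algebraMap O A)
  let ψ := MvPolynomial.map (σ := Fin n) (algebraMap O (O ⧸ m))
  -- clearing denominators
  have hclear : ∀ G : MvPolynomial (Fin n) A, ∃ s : O, s ∉ m ∧ ∃ g, φ g = MvPolynomial.C (algebraMap O A s) * G := by
    intro G
    induction G using MvPolynomial.induction_on with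
    | C a =>
      obtain ⟨⟨b, ⟨s, hs⟩⟩, hb⟩ := IsLocalization.surj m.primeCompl a
      refine ⟨s, hs, MvPolynomial.C b, ?_⟩
      rw [MvPolynomial.map_C, ← hb, ← map_mul, mul_comm]
    | add p q hp hq =>
      obtain ⟨s, hs, g, hg⟩ := hp
      obtain ⟨t, ht, g', hg'⟩ := hq
      refine ⟨s * t, fun h => (Ideal.IsPrime.mem_or_mem inferInstance h).elim hs ht,
        MvPolynomial.C t * g + MvPolynomial.C s * g', ?_⟩
      simp only [φ, map_add, map_mul, MvPolynomial.map_C] at hg hg' ⊢
      rw [hg, hg']; ring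
    | mul_X p i hp =>
      obtain ⟨s, hs, g, hg⟩ := hp
      refine ⟨s, hs, g * MvPolynomial.X i, ?_⟩
      simp only [φ, map_mul, MvPolynomial.map_X] at hg ⊢
      rw [hg, mul_assoc]
  obtain ⟨GA, hGA⟩ := Algebra.FinitePresentation.ker_fG_of_surjective πA hπA
  choose sA hsA gA hgA using hclear
  have hφinj : Function.Injective φ := MvPolynomial.map_injective _ hinjA
  have hgJ : ∀ G ∈ GA, π (gA G) = 0 := fun G hG => hinj (by
    have h0 : πA G = 0 := by
      have : G ∈ RingHom.ker πA.toRingHom := hGA ▸ Ideal.subset_span hG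
      exact this
    rw [map_zero, TensorProduct.mk_apply, ← hπA', hgA, map_mul, h0, mul_zero])
  let T := Ideal.span (gA '' (GA : Set _))
  have hT : ∀ j, π j = 0 → ∃ s : O, s ∉ m ∧ MvPolynomial.C s * j ∈ T := by
    intro j hj
    have h1 : φ j ∈ Ideal.span (GA : Set _) := by
      rw [hGA]
      show πA (φ j) = 0
      rw [hπA', hj, TensorProduct.tmul_zero]
    have h2 : ∀ y ∈ Ideal.span (GA : Set _), ∃ s : O, s ∉ m ∧ ∃ p ∈ T, φ p = MvPolynomial.C (algebraMap O A s) * y := by
      intro y hy
      induction hy using Submodule.span_induction with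
      | mem G hG => exact ⟨sA G, hsA G, gA G, Ideal.subset_span ⟨G, hG, rfl⟩, hgA G⟩
      | zero => exact ⟨1, fun h => Ideal.IsPrime.ne_top' ((Ideal.eq_top_iff_one m).2 h), 0, zero_mem _, by simp [φ]⟩
      | add a b _ _ ha hb =>
        obtain ⟨s, hs, p, hp, hpe⟩ := ha
        obtain ⟨t, ht, q, hq, hqe⟩ := hb
        refine ⟨s * t, fun h => (Ideal.IsPrime.mem_or_mem inferInstance h).elim hs ht,
          MvPolynomial.C t * p + MvPolynomial.C s * q, add_mem (Ideal.mul_mem_left _ _ hp) (Ideal.mul_mem_left _ _ hq), ?_⟩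
        simp only [φ, map_add, map_mul, MvPolynomial.map_C] at hpe hqe ⊢
        rw [hpe, hqe]; ring
      | smul c a _ ha =>
        obtain ⟨s, hs, p, hp, hpe⟩ := ha
        refine ⟨sA c * s, fun h => (Ideal.IsPrime.mem_or_mem inferInstance h).elim (hsA c) hs, gA c * p,
          Ideal.mul_mem_left _ _ hp, ?_⟩
        have := hgA c
        simp only [φ, map_mul, smul_eq_mul] at this hpe ⊢
        rw [this, hpe]; ring
    obtain ⟨s, hs, p, hp, hpe⟩ := h2 _ h1
    refine ⟨s, hs, ?_⟩
    rw [show MvPolynomial.C s * j = p from hφinj (by rw [hpe, map_mul]; simp [φ])]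
    exact hp
  obtain ⟨GR, hGR⟩ := Algebra.FinitePresentation.ker_fG_of_surjective πR hπR
  have hlift : ∀ h ∈ GR, ∃ hh, π hh = 0 ∧ ψ hh = h := by
    intro h hh
    obtain ⟨h', rfl⟩ := MvPolynomial.map_surjective (algebraMap O (O ⧸ m)) Ideal.Quotient.mk_surjective h
    have h0 : πR (ψ h') = 0 := by
      have : ψ h' ∈ RingHom.ker πR.toRingHom := hGR ▸ Ideal.subset_span hh
      exact this
    rw [hπR'] at h0
    have h1 := congrArg (TensorProduct.quotTensorEquivQuotSMul C m) h0
    rw [map_zero, ← map_one (Ideal.Quotient.mk m), TensorProduct.quotTensorEquivQuotSMul_mk_tmul, one_smul,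
      Submodule.Quotient.mk_eq_zero] at h1
    obtain ⟨p, hp, hpe⟩ : π h' ∈ (m • (⊤ : Submodule O (MvPolynomial (Fin n) O))).map π.toLinearMap := by
      rw [Submodule.map_smul'', Submodule.map_top, LinearMap.range_eq_top_of_surjective π.toLinearMap hπ]
      exact h1
    refine ⟨h' - p, by rw [map_sub, show π p = π h' from hpe, sub_self], ?_⟩
    have hp0 : ψ p = 0 := by
      refine Submodule.smul_induction_on hp ?_ ?_
      · intro μ hμ e _
        simp only [ψ, MvPolynomial.smul_eq_C_mul, map_mul, MvPolynomial.map_C, Ideal.Quotient.algebraMap_eq,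
          Ideal.Quotient.eq_zero_iff_mem.2 hμ, map_zero, zero_mul]
      · intro a b ha hb; rw [map_add, ha, hb, add_zero]
    rw [map_sub, hp0, sub_zero]
  choose hh hhπ hhψ using hlift
  let Hs : Set (MvPolynomial (Fin n) O) := Set.range fun h : (GR : Set _) => hh h.1 h.2
  refine Algebra.FinitePresentation.of_surjective hπ ?_
  have hker : RingHom.ker π.toRingHom = Ideal.span (gA '' (GA : Set _) ∪ Hs) := by
    refine le_antisymm (fun j hj => ?_) (Ideal.span_le.2 ?_)
    · have hj0 : π j = 0 := hj
      have h1 : ψ j ∈ (Ideal.span Hs).map ψ := by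
        have : ψ j ∈ RingHom.ker πR.toRingHom := by
          show πR (ψ j) = 0
          rw [hπR', hj0, TensorProduct.tmul_zero]
        rw [← hGR] at this
        refine (Ideal.span_le.2 ?_) this
        intro h hh'
        rw [← hhψ h hh']
        exact Ideal.mem_map_of_mem ψ (Ideal.subset_span ⟨⟨h, hh'⟩, rfl⟩)
      obtain ⟨p, hp, hpe⟩ := (Ideal.mem_map_iff_of_surjective ψ
        (MvPolynomial.map_surjective (algebraMap O (O ⧸ m)) Ideal.Quotient.mk_surjective)).1 h1
      have hpπ : π p = 0 := by
        have : Ideal.span Hs ≤ RingHom.ker π.toRingHom := Ideal.span_le.2 (by rintro _ ⟨h, rfl⟩; exact hhπ _ _)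
        exact this hp
      have hz : j - p ∈ m • (⊤ : Submodule O (MvPolynomial (Fin n) O)) := by
        have hmem : ∀ d, (j - p).coeff d ∈ m := fun d => by
          rw [← Ideal.Quotient.eq_zero_iff_mem, MvPolynomial.coeff_sub, map_sub]
          have := congrArg (MvPolynomial.coeff d) hpe
          simp only [ψ, MvPolynomial.coeff_map, Ideal.Quotient.algebraMap_eq] at this
          rw [this, sub_self]
        rw [(j - p).as_sum]
        refine sum_mem fun d _ => ?_
        rw [← mul_one ((j - p).coeff d), ← smul_eq_mul, ← MvPolynomial.smul_monomial]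
        exact Submodule.smul_mem_smul (hmem d) trivial
      haveI : Module.Flat O C := flat (A := A) m hm hinjA hinj
      let sub := (LinearMap.ker π.toLinearMap).subtype
      have hinjJ : Function.Injective (sub.lTensor (O ⧸ m)) :=
        LinearMap.lTensor_injective_of_exact_of_flat π.toLinearMap hπ sub Subtype.val_injective
          (LinearMap.exact_subtype_ker_map _) (O ⧸ m)
      let zJ : LinearMap.ker π.toLinearMap := ⟨j - p, by
        rw [LinearMap.mem_ker, AlgHom.toLinearMap_apply, map_sub, hj0, hpπ, sub_self]⟩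
      have h2 : (1 : O ⧸ m) ⊗ₜ[O] zJ = 0 := hinjJ (by
        rw [map_zero, LinearMap.lTensor_tmul]
        apply (TensorProduct.quotTensorEquivQuotSMul (MvPolynomial (Fin n) O) m).injective
        rw [map_zero, ← map_one (Ideal.Quotient.mk m), TensorProduct.quotTensorEquivQuotSMul_mk_tmul, one_smul,
          Submodule.Quotient.mk_eq_zero]
        exact hz)
      have h3 := congrArg (TensorProduct.quotTensorEquivQuotSMul (LinearMap.ker π.toLinearMap) m) h2
      rw [map_zero, ← map_one (Ideal.Quotient.mk m), TensorProduct.quotTensorEquivQuotSMul_mk_tmul, one_smul,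
        Submodule.Quotient.mk_eq_zero] at h3
      have h4 : ∀ y ∈ m • (⊤ : Submodule O (LinearMap.ker π.toLinearMap)), (y : MvPolynomial (Fin n) O) ∈ T := by
        intro y hy
        refine Submodule.smul_induction_on hy ?_ ?_
        · intro μ hμ e _
          obtain ⟨s, hs, hse⟩ := hT e e.2
          obtain ⟨μ', -, rfl⟩ := hm μ hμ s hs
          rw [Submodule.coe_smul, MvPolynomial.smul_eq_C_mul, map_mul, mul_comm (MvPolynomial.C s), mul_assoc]
          exact Ideal.mul_mem_left _ _ hse
        · intro a b ha hb; exact add_mem ha hb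
      have h5 : j - p ∈ T := h4 zJ h3
      rw [Ideal.span_union, show j = (j - p) + p by ring]
      exact Submodule.add_mem_sup h5 hp
    · rintro g (⟨G, hG, rfl⟩ | ⟨h, rfl⟩)
      · exact hgJ G hG
      · exact hhπ _ _
  rw [hker]
  exact Submodule.fg_span ((GA.finite_toSet.image _).union (Set.finite_range _))

end SemiVal

end Groth.Agent.H1SemiVal
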